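import Cfsg.Agent.Lib.RootSubgroups.Basic

/-!
Rank one pairs of a degenerate class of abstract root subgroups are special once some member commuting
with the first one is opposite to the second.

Notation in the comments: `x ^ g = g⁻¹ x g`.  For `A` commuting with `C`, both opposite to `B`, one
finds `u` centralising `B` and moving `A` to a commuting member, such that `γ(a) = a⁻¹ a^u` and
`δ(γ(a), b) = b⁻¹ b^{γ(a)}` satisfy `u ≡ δ(γ(a), b(a))` modulo the centraliser of `⟨A, B⟩`.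
-/

set_option autoImplicit false
set_option linter.unusedSectionVars false

namespace Cfsg.Agent.Lib.RootSpecial84

open Cfsg Cfsg.Agent.Lib.RootSubgroups

variable {G : Type*} [Group G] {S : Set (Subgroup G)} {A B C : Subgroup G}

/-- Elementwise commutation. -/
def Cm (A B : Subgroup G) : Prop := ∀ a ∈ A, ∀ b ∈ B, Commute a b

lemma Cm.symm (h : Cm A B) : Cm B A := fun b hb a ha => (h a ha b hb).symm

lemma commute_conj {g a b : G} (h : Commute a b) : Commute (g * a * g⁻¹) (g * b * g⁻¹) :=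
  (Commute.conj_iff g).2 h

lemma Cm.conj (h : Cm A B) (g : G) : Cm (conjBy A g) (conjBy B g) := by
  rintro _ ⟨a, ha, rfl⟩ _ ⟨b, hb, rfl⟩
  exact commute_conj (h a ha b hb)

lemma mem_conjBy_inv {g a : G} (ha : a ∈ A) : g⁻¹ * a * g ∈ conjBy A g⁻¹ := by
  have h := conj_mem_conjBy (g := g⁻¹) ha
  rwa [inv_inv] at h

/-- `b⁻¹ b^g`. -/
def delta (g b : G) : G := b⁻¹ * (g⁻¹ * b * g)

/-- `a⁻¹ a^u`. -/
def gam (u a : G) : G := a⁻¹ * (u⁻¹ * a * u)

lemma hom_mul {g b b' : G} (h : Commute b' (g⁻¹ * b * g)) (h' : Commute b b') :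
    delta g (b * b') = delta g b * delta g b' := by
  unfold delta
  calc (b * b')⁻¹ * (g⁻¹ * (b * b') * g) = b'⁻¹ * b⁻¹ * (g⁻¹ * b * g) * (g⁻¹ * b' * g) := by group
    _ = b⁻¹ * b'⁻¹ * (g⁻¹ * b * g) * (g⁻¹ * b' * g) := by rw [(h'.inv_inv).eq]
    _ = b⁻¹ * (b'⁻¹ * (g⁻¹ * b * g)) * (g⁻¹ * b' * g) := by group
    _ = b⁻¹ * ((g⁻¹ * b * g) * b'⁻¹) * (g⁻¹ * b' * g) := by rw [h.inv_left.eq]
    _ = _ := by group

variable (hS : IsRootSubgroupSet S) (hA : A ∈ S) (hB : B ∈ S) (hAB : IsRankOnePair A B)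
include hS hA hB hAB

/-- An element commuting with `A` carrying `B` to a commuting member yields members commuting
with `A`. -/
lemma cm_delta {g : G} (hgA : ∀ a ∈ A, Commute g a) (hgB : Cm B (conjBy B g⁻¹)) {b : G}
    (hb : b ∈ B) : Cm A (conjBy A (delta g b)⁻¹) := by
  by_cases hb1 : b = 1
  · rw [show delta g b = 1 by simp [delta, hb1], inv_one, conjBy_one]
    exact fun a ha a' ha' => Root.comm_self hS hA ha ha'
  obtain ⟨a, ha, -, he⟩ := (RankOnePair_symm hAB).cond_left b hb hb1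
  have h1 : Cm (conjBy A b⁻¹) (conjBy (conjBy A b⁻¹) g⁻¹) := by
    rw [← he, conjBy_conjBy, show g⁻¹ * a⁻¹ = a⁻¹ * g⁻¹ from ((hgA a ha).inv_inv).eq,
      ← conjBy_conjBy]
    exact hgB.conj a⁻¹
  have h2 := h1.conj b
  rw [conjBy_cancel, conjBy_conjBy, conjBy_conjBy] at h2
  have hbg : Commute b (g⁻¹ * b * g) := hgB b hb _ (mem_conjBy_inv hb)
  have e : conjBy A (b * g⁻¹ * b⁻¹) = conjBy A ((delta g b)⁻¹) := by
    have e1 : (delta g b)⁻¹ = b * g⁻¹ * b⁻¹ * g := by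
      rw [show (delta g b)⁻¹ = (g⁻¹ * b * g)⁻¹ * b by simp only [delta]; group,
        (hbg.inv_right).symm.eq]
      group
    rw [e1, ← conjBy_conjBy A g, conjBy_of_comm fun a ha => (hgA a ha).eq]
  rw [e] at h2
  exact h2

omit hA in
/-- The elements `b⁻¹ b^g` centralise `B`. -/
lemma delta_comm {g b : G} (hgB : Cm B (conjBy B g⁻¹)) (hb : b ∈ B) {b' : G} (hb' : b' ∈ B) :
    Commute (delta g b) b' :=
  ((show Commute b b' from Root.comm_self hS hB hb hb').inv_left).mul_left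
    (hgB b' hb' _ (mem_conjBy_inv hb)).symm

omit hA hAB in
lemma delta_pow {g b : G} (hgB : Cm B (conjBy B g⁻¹)) (hb : b ∈ B) (n : ℤ) :
    delta g b ^ n = delta g (b ^ n) := by
  have hc : Commute b⁻¹ (g⁻¹ * b * g) := (hgB b hb _ (mem_conjBy_inv hb)).inv_left
  rw [delta, hc.mul_zpow, inv_zpow, delta]
  congr 1
  have h := conj_zpow (i := n) (a := g⁻¹) (b := b)
  rwa [inv_inv] at h

/-- Some `b⁻¹ b^g` moves `A`, unless `g` normalises `B`. -/
lemma exists_moving {g : G} (hgB : Cm B (conjBy B g⁻¹)) (hne : conjBy B g⁻¹ ≠ B) :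
    ∃ b ∈ B, ∃ a ∈ A, ¬ Commute (delta g b) a := by
  by_contra hall
  push Not at hall
  apply hne
  refine conjBy_eq_self_iff.2 (Subgroup.inv_mem _ ?_)
  rw [← conjBy_eq_self_iff]
  have hfix : ∀ b ∈ B, g⁻¹ * b * g = b := fun b hb => by
    by_cases hb1 : b = 1
    · simp [hb1]
    have h := Root.eq_one_of_central_shift hS hA (RankOnePair_symm hAB)
      (hS.conj_mem B hB g⁻¹) (a := b) (z := delta g b) hb hb1
      (fun x hx => (delta_comm hS hB hAB hgB hb hx).eq) (fun x hx => (hall b hb x hx).eq) (by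
        have hc : Commute b (g⁻¹ * b * g) := hgB b hb _ (mem_conjBy_inv hb)
        rw [delta, hc.inv_left.eq, inv_mul_cancel_right]
        exact mem_conjBy_inv hb)
    exact (inv_mul_eq_one.1 h).symm
  exact conjBy_of_comm fun b hb => by
    calc g * b = g * (g⁻¹ * b * g) := by rw [hfix b hb]
      _ = b * g := by group

/-- For `u` centralising `B` and moving `A` to commuting members, `γ` moves `B` to commuting
members. -/
lemma cm_gam {u : G} (huB : ∀ b ∈ B, Commute u b) (huA : ∀ n : ℤ, Cm A (conjBy A (u ^ n)⁻¹))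
    {a : G} (ha : a ∈ A) : Cm B (conjBy B (gam u a)⁻¹) := by
  by_cases ha1 : a = 1
  · rw [show gam u a = 1 by simp [gam, ha1], inv_one, conjBy_one]
    exact fun b hb b' hb' => Root.comm_self hS hB hb hb'
  obtain ⟨b, hb, -, he⟩ := hAB.cond_left a ha ha1
  have h1 : Cm (conjBy B a⁻¹) (conjBy B (u⁻¹ * a * u)⁻¹) := by
    have h2 := (huA 1).conj b⁻¹
    rw [zpow_one, conjBy_conjBy, show b⁻¹ * u⁻¹ = u⁻¹ * b⁻¹ from (huB b hb).symm.inv_inv.eq,
      ← conjBy_conjBy, he, conjBy_conjBy] at h2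
    rwa [show conjBy B (u⁻¹ * a * u)⁻¹ = conjBy B (u⁻¹ * a⁻¹) by
      rw [show (u⁻¹ * a * u)⁻¹ = u⁻¹ * a⁻¹ * u by group, ← conjBy_conjBy B u,
        conjBy_of_comm fun b hb => (huB b hb).eq]]
  have h3 := h1.conj a
  rw [conjBy_cancel, conjBy_conjBy] at h3
  have hc : Commute a (u⁻¹ * a * u) := (huA 1) a ha _ (by rw [zpow_one]; exact mem_conjBy_inv ha)
  rwa [show a * (u⁻¹ * a * u)⁻¹ = (gam u a)⁻¹ by
    rw [hc.inv_right.eq]; unfold gam; group] at h3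

omit hB hAB in
lemma gam_comm {u : G} (huA : ∀ n : ℤ, Cm A (conjBy A (u ^ n)⁻¹)) {a a' : G} (ha : a ∈ A)
    (ha' : a' ∈ A) : Commute (gam u a) a' :=
  ((show Commute a a' from Root.comm_self hS hA ha ha').inv_left).mul_left
    ((huA 1) a' ha' _ (by rw [zpow_one]; exact mem_conjBy_inv ha)).symm

omit hB hAB in
lemma gam_mul {u : G} (huA : ∀ n : ℤ, Cm A (conjBy A (u ^ n)⁻¹)) {a a' : G} (ha : a ∈ A)
    (ha' : a' ∈ A) : gam u (a * a') = gam u a * gam u a' :=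
  hom_mul ((huA 1) a' ha' _ (by rw [zpow_one]; exact mem_conjBy_inv ha))
    (Root.comm_self hS hA ha ha')

/-- `u (δ(γ a, b))⁻¹` centralises `A` and `B`. -/
lemma cent_z {u : G} (huB : ∀ b ∈ B, Commute u b) (huA : ∀ n : ℤ, Cm A (conjBy A (u ^ n)⁻¹))
    {a b : G} (ha : a ∈ A) (hb : b ∈ B) (he : conjBy A b⁻¹ = conjBy B a⁻¹) :
    (∀ y ∈ B, Commute (u * (delta (gam u a) b)⁻¹) y) ∧
      ∀ y ∈ A, Commute (u * (delta (gam u a) b)⁻¹) y := by
  set γ := gam u a with hγ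
  have hgB := cm_gam hS hA hB hAB huB huA ha
  set δ := delta γ b with hδ
  refine ⟨fun y hy => (huB y hy).mul_left (delta_comm hS hB hAB hgB hb hy).inv_left, fun y hy => ?_⟩
  have hua : a⁻¹ * u * a = u * γ⁻¹ := by
    rw [hγ, gam]
    group
  have hbγ : b * γ⁻¹ * b⁻¹ = δ⁻¹ * γ⁻¹ := by
    have hc : Commute b (γ⁻¹ * b * γ) := hgB b hb _ (mem_conjBy_inv hb)
    rw [hδ, delta, mul_inv_rev, inv_inv, (hc.inv_right).symm.eq]
    group
  -- the conjugate of `u` by `a b⁻¹` centralises `A`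
  have hx : conjBy B (b * a⁻¹) = A := by rw [← conjBy_conjBy, ← he, conjBy_cancel]
  have h1 : Commute (b * (a⁻¹ * u * a) * b⁻¹) y := by
    rw [← hx] at hy
    obtain ⟨b', hb', rfl⟩ := hy
    have := commute_conj (g := b * a⁻¹) (huB b' hb')
    simpa [mul_assoc] using this
  rw [hua, show b * (u * γ⁻¹) * b⁻¹ = (b * u) * γ⁻¹ * b⁻¹ by group, (huB b hb).symm.eq,
    show u * b * γ⁻¹ * b⁻¹ = u * (b * γ⁻¹ * b⁻¹) by group, hbγ, ← mul_assoc] at h1
  have h2 := h1.mul_left (gam_comm hS hA huA ha hy)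
  rwa [inv_mul_cancel_right] at h2

/-- A normalised element centralising `B` which moves `A`. -/
lemma exists_normalised (hC : C ∈ S) (hAC : Cm A C) (hCB : IsRankOnePair C B) (hne : C ≠ A) :
    ∃ u, ∃ a₀ ∈ A, ∃ b₀ ∈ B, u = delta (gam u a₀) b₀ ∧ (∀ b ∈ B, Commute u b) ∧
      (∀ n : ℤ, Cm A (conjBy A (u ^ n)⁻¹)) ∧ ∀ z : G, (∀ a ∈ A, Commute z a) → z ≠ u := by
  -- an element commuting with `A` carrying `B` to a different commuting member
  obtain ⟨b₁, hb₁, hb₁1⟩ := exists_ne_one (RankOne.left_ne_bot (RankOnePair_symm hAB))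
  obtain ⟨a₁, ha₁, -, he₁⟩ := (RankOnePair_symm hAB).cond_left b₁ hb₁ hb₁1
  obtain ⟨c₁, hc₁, -, hd₁⟩ := (RankOnePair_symm hCB).cond_left b₁ hb₁ hb₁1
  set g₀ := c₁ * a₁⁻¹ with hg₀
  have hg₀A : ∀ a ∈ A, Commute g₀ a := fun a ha =>
    (hAC a ha c₁ hc₁).symm.mul_left
      ((show Commute a₁ a from Root.comm_self hS hA ha₁ ha).inv_left)
  have hg₀B : Cm B (conjBy B g₀⁻¹) := by
    have h1 := (hAC.conj b₁⁻¹).conj a₁
    rwa [← he₁, ← hd₁, conjBy_cancel, conjBy_conjBy,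
      show a₁ * c₁⁻¹ = g₀⁻¹ by rw [hg₀]; group] at h1
  have hg₀ne : conjBy B g₀⁻¹ ≠ B := by
    intro e
    rw [show g₀⁻¹ = a₁ * c₁⁻¹ by rw [hg₀]; group, ← conjBy_conjBy, hd₁, conjBy_eq_iff, he₁] at e
    exact hne (conjBy_inj e)
  obtain ⟨b₂, hb₂, a₂, ha₂, hmov⟩ := exists_moving hS hA hB hAB hg₀B hg₀ne
  set u₀ := delta g₀ b₂ with hu₀
  have hu₀B : ∀ b ∈ B, Commute u₀ b := fun b hb => delta_comm hS hB hAB hg₀B hb₂ hb
  have hu₀A : ∀ n : ℤ, Cm A (conjBy A (u₀ ^ n)⁻¹) := fun n => by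
    rw [delta_pow hS hB hg₀B hb₂]
    exact cm_delta hS hA hB hAB hg₀A hg₀B (zpow_mem hb₂ n)
  -- normalise it
  obtain ⟨a₀, ha₀, ha₀1⟩ := exists_ne_one (RankOne.left_ne_bot hAB)
  obtain ⟨b₀, hb₀, -, he₀⟩ := hAB.cond_left a₀ ha₀ ha₀1
  have hzA := (cent_z hS hA hB hAB hu₀B hu₀A ha₀ hb₀ he₀).2
  have hγ₀B := cm_gam hS hA hB hAB hu₀B hu₀A ha₀
  set u := delta (gam u₀ a₀) b₀ with hu
  have huB : ∀ b ∈ B, Commute u b := fun b hb => delta_comm hS hB hAB hγ₀B hb₀ hb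
  have huA : ∀ n : ℤ, Cm A (conjBy A (u ^ n)⁻¹) := fun n => by
    rw [hu, delta_pow hS hB hγ₀B hb₀]
    exact cm_delta hS hA hB hAB (fun a ha => gam_comm hS hA hu₀A ha₀ ha) hγ₀B (zpow_mem hb₀ n)
  have hgam : ∀ a ∈ A, gam u₀ a = gam u a := fun a ha => by
    unfold gam
    congr 1
    have h1 : Commute (u₀ * u⁻¹) a := hzA a ha
    calc u₀⁻¹ * a * u₀ = u₀⁻¹ * (a * (u₀ * u⁻¹)) * u := by group
      _ = u₀⁻¹ * ((u₀ * u⁻¹) * a) * u := by rw [h1.eq]
      _ = u⁻¹ * a * u := by group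
  have humov : ∀ z : G, (∀ a ∈ A, Commute z a) → z ≠ u := fun z hz e => by
    apply hmov
    have h1 := (hzA a₂ ha₂).mul_left (e ▸ hz a₂ ha₂)
    rwa [inv_mul_cancel_right] at h1
  exact ⟨u, a₀, ha₀, b₀, hb₀, by rw [← hgam a₀ ha₀], huB, huA, humov⟩

/-- The pair is special when a member commuting with `A` is opposite to `B`. -/
theorem special (hC : C ∈ S) (hAC : Cm A C) (hCB : IsRankOnePair C B) (hne : C ≠ A) :
    IsSpecialRankOnePair A B := by
  obtain ⟨u, a₀, ha₀, b₀, hb₀, hu, huB, huA, humov⟩ :=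
    exists_normalised hS hA hB hAB hC hAC hCB hne
  -- `u` commutes with all `δ(γ a, b)`
  have huδ : ∀ a ∈ A, ∀ b ∈ B, Commute u (delta (gam u a) b) := fun a ha b hb => by
    have hga := cm_gam hS hA hB hAB huB huA ha
    have h2 : Cm (conjBy B (gam u a₀)⁻¹) (conjBy B (gam u a)⁻¹) := by
      have h3 := (cm_gam hS hA hB hAB huB huA (mul_mem ha (inv_mem ha₀))).conj (gam u a₀)⁻¹
      rwa [conjBy_conjBy, ← mul_inv_rev, ← gam_mul hS hA huA (mul_mem ha (inv_mem ha₀)) ha₀,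
        inv_mul_cancel_right] at h3
    have e : u = b₀⁻¹ * ((gam u a₀)⁻¹ * b₀ * gam u a₀) := hu
    refine (congrArg (fun w => Commute w (delta (gam u a) b)) e).mpr ?_
    exact Commute.mul_right
      (Commute.mul_left ((show Commute b₀ b from Root.comm_self hS hB hb₀ hb).inv_inv)
        ((cm_gam hS hA hB hAB huB huA ha₀) b hb _ (mem_conjBy_inv hb₀)).inv_left.symm)
      (Commute.mul_left (hga b₀ hb₀ _ (mem_conjBy_inv hb)).inv_left
        (h2 _ (mem_conjBy_inv hb₀) _ (mem_conjBy_inv hb)))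
  -- `γ` is injective
  have hinj : ∀ a ∈ A, gam u a = 1 → a = 1 := by
    intro a ha e
    by_contra ha1
    obtain ⟨b, hb, -, he⟩ := hAB.cond_left a ha ha1
    have h1 := (cent_z hS hA hB hAB huB huA ha hb he).2
    rw [e, show delta 1 b = 1 by simp [delta], inv_one, mul_one] at h1
    exact humov u h1 rfl
  refine ⟨hAB, fun a ha ha1 b hb hb1 he => ?_⟩
  set y' := b * (a⁻¹ * b⁻¹ * a) * b⁻¹ with hy'
  have hy'A : y' ∈ A := by
    have h1 : a⁻¹ * b⁻¹ * a ∈ conjBy A b⁻¹ := he ▸ mem_conjBy_inv (inv_mem hb)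
    have h2 := conj_mem_conjBy (g := b) h1
    rwa [conjBy_cancel] at h2
  obtain ⟨hzB, hzA'⟩ := cent_z hS hA hB hAB huB huA ha hb he
  set γ := gam u a with hγ
  set δ := delta γ b with hδ
  set z := u * δ⁻¹ with hz
  have hzu : Commute z u := (Commute.refl u).mul_left (huδ a ha b hb).symm.inv_left
  have hzγ : Commute z γ := by
    rw [hγ, gam]
    exact ((hzA' a ha).inv_right).mul_right
      ((hzu.inv_right.mul_right (hzA' a ha)).mul_right hzu)
  have hgB := cm_gam hS hA hB hAB huB huA ha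
  -- the conjugates of `u` and `γ`
  have r1 : b * u * b⁻¹ = u := by rw [← (huB b hb).eq, mul_inv_cancel_right]
  have r2 : b * γ * b⁻¹ = γ * (z⁻¹ * u) := by
    have hc : Commute b (γ⁻¹ * b * γ) := hgB b hb _ (mem_conjBy_inv hb)
    rw [show z⁻¹ * u = δ by rw [hz]; group, hδ, delta, hc.inv_left.eq]
    group
  have r3 : a⁻¹ * u * a = u * γ⁻¹ := by rw [hγ, gam]; group
  have r4 : a * γ * a⁻¹ = γ := by
    rw [← (gam_comm hS hA huA ha ha).eq, mul_inv_cancel_right]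
  have r5 : a * u * a⁻¹ = u * γ := by
    calc a * u * a⁻¹ = a * (u * γ⁻¹) * a⁻¹ * (a * γ * a⁻¹) := by group
      _ = u * γ := by rw [← r3, r4]; group
  have r6 : a⁻¹ * γ * a = γ := by
    calc a⁻¹ * γ * a = a⁻¹ * (a * γ * a⁻¹) * a := by rw [r4]
      _ = γ := by group
  have r7 : a⁻¹ * z * a = z := by rw [mul_assoc, (hzA' a ha).eq, inv_mul_cancel_left]
  have r8 : b * z * b⁻¹ = z := by rw [← (hzB b hb).eq, mul_inv_cancel_right]
  have key : y'⁻¹ * u * y' = a⁻¹ * u * a := by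
    calc y'⁻¹ * u * y'
        = b * (a⁻¹ * (b * (a * (b⁻¹ * u * b) * a⁻¹) * b⁻¹) * a) * b⁻¹ := by rw [hy']; group
      _ = b * (a⁻¹ * (b * (a * u * a⁻¹) * b⁻¹) * a) * b⁻¹ := by
          rw [show b⁻¹ * u * b = u by rw [mul_assoc, (huB b hb).eq, inv_mul_cancel_left]]
      _ = b * (a⁻¹ * ((b * u * b⁻¹) * (b * γ * b⁻¹)) * a) * b⁻¹ := by rw [r5]; group
      _ = b * ((a⁻¹ * u * a) * (a⁻¹ * γ * a) * (a⁻¹ * z * a)⁻¹ * (a⁻¹ * u * a)) * b⁻¹ := by
          rw [r1, r2]; group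
      _ = b * (u * z⁻¹ * u * γ⁻¹) * b⁻¹ := by rw [r3, r6, r7]; group
      _ = (b * u * b⁻¹) * (b * z * b⁻¹)⁻¹ * (b * u * b⁻¹) * (b * γ * b⁻¹)⁻¹ := by group
      _ = u * γ⁻¹ := by
          rw [r1, r2, r8]; group
      _ = a⁻¹ * u * a := r3.symm
  have heq : gam u y' = gam u a := by
    have h1 : ∀ w : G, gam u w = ((w⁻¹ * u * w)⁻¹ * u) := fun w => by unfold gam; group
    rw [h1, h1, key]
  have hya : y' = a := by
    refine eq_of_mul_inv_eq_one (hinj _ (mul_mem hy'A (inv_mem ha)) ?_)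
    rw [gam_mul hS hA huA hy'A (inv_mem ha), heq, ← gam_mul hS hA huA ha (inv_mem ha),
      mul_inv_cancel]
    simp [gam]
  calc b⁻¹ * a * b = b⁻¹ * y' * b := by rw [hya]
    _ = a⁻¹ * b⁻¹ * a := by rw [hy']; group

end Cfsg.Agent.Lib.RootSpecial84
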