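import Cfsg.Agent.Lib.RootSpecial84.Degenerate
import Cfsg.Agent.Lib.RootSubgroups.Components

/-!
In a degenerate class with two different commuting members and large members, the members commuting
with one member of a rank one pair cannot all commute with the other one.
-/

set_option autoImplicit false
set_option linter.unusedSectionVars false

namespace Cfsg.Agent.Lib.RootSpecial84

open Cfsg Cfsg.Agent.Lib.RootSubgroups

variable {G : Type*} [Group G] {S : Set (Subgroup G)} {A B C E : Subgroup G}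

/-- Three elements of `A` with all seven non-empty products non-trivial. -/
def Good (A : Subgroup G) : Prop :=
  ∃ x ∈ A, ∃ y ∈ A, ∃ z ∈ A,
    x ≠ 1 ∧ y ≠ 1 ∧ z ≠ 1 ∧ x * y ≠ 1 ∧ x * z ≠ 1 ∧ y * z ≠ 1 ∧ x * y * z ≠ 1

lemma Good.conj (h : Good A) (g : G) : Good (conjBy A g) := by
  obtain ⟨x, hx, y, hy, z, hz, h1, h2, h3, h4, h5, h6, h7⟩ := h
  refine ⟨_, conj_mem_conjBy hx, _, conj_mem_conjBy hy, _, conj_mem_conjBy hz, ?_⟩
  simp only [← MulAut.conj_apply, ← map_mul, ne_eq, map_eq_one_iff _ (MulAut.conj g).injective]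
  exact ⟨h1, h2, h3, h4, h5, h6, h7⟩

lemma pow_eq_one_of_not_good (h : ¬ Good A) {a : G} (ha : a ∈ A) : a ^ 2 = 1 ∨ a ^ 3 = 1 := by
  by_contra hc
  push Not at hc
  obtain ⟨h2, h3⟩ := hc
  rw [pow_two] at h2
  rw [pow_succ, pow_two] at h3
  exact h ⟨a, ha, a, ha, a, ha, fun e => h2 (by simp [e]), fun e => h2 (by simp [e]),
    fun e => h2 (by simp [e]), h2, h2, h2, h3⟩

/-- A degenerate class has a member commuting with `A` and a member opposite to both of them. -/
lemma exists_opposite (hS : IsRootSubgroupClass S) (hdeg : IsDegenerateRootSet S) (hA : A ∈ S)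
    (hB : B ∈ S) (hAB : IsRankOnePair A B) (hC : C ∈ S) (hAC : Cm A C) (hne : C ≠ A) :
    ∃ C' ∈ S, ∃ E ∈ S, Cm A C' ∧ C' ≠ A ∧ IsRankOnePair A E ∧ IsRankOnePair C' E := by
  by_contra hall
  push Not at hall
  have atA : ∀ D ∈ S, Cm A D → D ≠ A → ∀ E ∈ S, IsRankOnePair A E → Cm D E := fun D hD h1 h2 E hE h3 =>
    fun d hd e he => comm_of_commutator_eq_bot (((hS.1.pair D hD E hE).resolve_right (by
      rintro (h4 | h4)
      · exact hall D hD E hE h1 h2 h3 h4
      · exact hdeg D hD E hE h4))) hd he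
  have atX : ∀ X ∈ S, ∀ D ∈ S, Cm X D → D ≠ X → ∀ E ∈ S, IsRankOnePair X E → Cm D E := by
    intro X hX D hD h1 h2 E hE h3
    obtain ⟨g, rfl⟩ := hS.2.2 A hA X hX
    have e1 := h1.conj g⁻¹
    have e3 := RankOne.conj h3 g⁻¹
    rw [conjBy_inv_cancel] at e1 e3
    have h := (atA _ (hS.1.conj_mem D hD g⁻¹) e1
      (fun e => h2 (by rw [← e, conjBy_cancel])) _ (hS.1.conj_mem E hE g⁻¹) e3).conj g
    rwa [conjBy_cancel, conjBy_cancel] at h
  have hp : ∀ X ∈ S, HasPartner S X := fun X hX => by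
    obtain ⟨g, rfl⟩ := hS.2.2 A hA X hX
    exact Root.hasPartner_conjBy hS.1 ⟨B, hB, hAB⟩ g
  have inv : ∀ X, Relation.ReflTransGen (FAdj S) A X → Cm X C ∧ C ≠ X := by
    intro X hX
    induction hX with
    | refl => exact ⟨hAC, hne⟩
    | @tail Y Z _ hYZ ih =>
      refine ⟨(atX Y hYZ.1 C hC ih.1 ih.2 Z hYZ.2.1 hYZ.2.2).symm, fun e => ?_⟩
      exact RankOne.not_commute hYZ.2.2 (commutator_eq_bot_of_comm fun y hy z hz =>
        (ih.1 y hy z (e ▸ hz)).eq)
  obtain ⟨g, hg⟩ := hS.2.2 A hA C hC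
  exact (inv C (hg ▸ Root.reach_conj hS.1 hp g A hA)).2 rfl

section

variable (hS : IsRootSubgroupSet S) (hA : A ∈ S) (hE : E ∈ S) (hAE : IsRankOnePair A E)
include hS hA hE hAE

/-- An element centralising `E` and normalising `A` centralises `A`. -/
lemma comm_of_fix {v : G} (hvE : ∀ e ∈ E, Commute v e) (hfix : conjBy A v⁻¹ = A) {a : G}
    (ha : a ∈ A) : Commute v a := by
  by_cases ha1 : a = 1
  · rw [ha1]; exact Commute.one_right v
  obtain ⟨e, he, he1, heq⟩ := hAE.cond_left a ha ha1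
  have hm : v⁻¹ * a * v ∈ A := hfix ▸ mem_conjBy_inv ha
  have r' : Rel A E (v⁻¹ * a * v) e := by
    refine ⟨hm, fun h => ha1 ?_, he, he1, ?_⟩
    · rw [mul_assoc, inv_mul_eq_one] at h
      exact mul_eq_right.1 h.symm
    · have h1 := congrArg (fun X => conjBy X v⁻¹) heq
      simp only [conjBy_conjBy] at h1
      rw [((hvE e he).inv_inv).eq, ← conjBy_conjBy A v⁻¹, hfix] at h1
      rw [h1, show (v⁻¹ * a * v)⁻¹ = v⁻¹ * a⁻¹ * v by group, ← conjBy_conjBy E v,
        conjBy_of_comm fun x hx => (hvE x hx).eq]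
  have h := RankOne.rel_unique_left hAE r' ⟨ha, ha1, he, he1, heq⟩
  calc v * a = v * (v⁻¹ * a * v) := by rw [h]
    _ = a * v := by group

/-- The main computation. -/
theorem false_of_good (hB : B ∈ S) (hAB : IsRankOnePair A B) (hC : C ∈ S) (hAC : Cm A C)
    (hCE : IsRankOnePair C E) (hne : C ≠ A) (hgood : Good E)
    (hP : ∀ X ∈ S, Cm A X → X ≠ A → Cm X B) : False := by
  obtain ⟨u, a₀, ha₀, e₀, he₀, hu, huE, huA, humov⟩ :=
    exists_normalised hS hA hE hAE hC hAC hCE hne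
  have hu1 : (1 : G) ≠ u := humov 1 fun a _ => Commute.one_left a
  set g := gam u a₀ with hg
  have hgA : ∀ a ∈ A, Commute g a := fun a ha => gam_comm hS hA huA ha₀ ha
  have hgE := cm_gam hS hA hE hAE huE huA ha₀
  have hEne : conjBy E g⁻¹ ≠ E := fun e => by
    have hmem : u⁻¹ ∈ E := by
      rw [hu]
      exact inv_mem (mul_mem (inv_mem he₀) (e ▸ mem_conjBy_inv he₀))
    refine Root.translate_not_commute (RankOnePair_symm hAE) hmem
      (fun h => hu1 (inv_eq_one.1 h).symm) (commutator_eq_bot_of_comm fun x hx y hy => ?_)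
    exact (huA 1 x hx y (by rwa [zpow_one])).eq
  have hE' : conjBy E g⁻¹ ∈ S := hS.conj_mem E hE g⁻¹
  have hcE : ∀ e ∈ E, ∀ e' ∈ E, Commute e e' := fun e he e' he' => Root.comm_self hS hE he he'
  have hcE' : Cm (conjBy E g⁻¹) (conjBy E g⁻¹) := fun x hx y hy => Root.comm_self hS hE' hx hy
  -- the homomorphism `δ`
  set d : G → G := delta g with hd
  have d_mul : ∀ e ∈ E, ∀ e' ∈ E, d (e * e') = d e * d e' := fun e he e' he' =>
    hom_mul (hgE e' he' _ (mem_conjBy_inv he)) (hcE e he e' he')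
  have d_E : ∀ e ∈ E, ∀ x ∈ E, Commute (d e) x := fun e he x hx =>
    delta_comm hS hE hAE hgE he hx
  have d_pow : ∀ e ∈ E, ∀ n : ℤ, Cm A (conjBy A (d e ^ n)⁻¹) := fun e he n => by
    rw [hd, delta_pow hS hE hgE he]
    exact cm_delta hS hA hE hAE hgA hgE (zpow_mem he n)
  have d_one : d 1 = 1 := by simp [hd, delta]
  -- the elements `F`
  set F : G → G := fun e => (d e)⁻¹ * a₀ * d e with hF
  have F_conj : ∀ e ∈ E, ∀ z ∈ E, (d z)⁻¹ * F e * d z = F (e * z) := fun e he z hz => by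
    simp only [hF]
    rw [d_mul e he z hz]
    group
  have F_one : F 1 = a₀ := by simp [hF, d_one]
  have F_comm : ∀ e ∈ E, ∀ e' ∈ E, Commute (F e) (F e') := fun e he e' he' => by
    have h0 : Commute (F 1) (F (e' * e⁻¹)) := by
      rw [F_one]
      refine cm_delta hS hA hE hAE hgA hgE (mul_mem he' (inv_mem he)) a₀ ha₀ _ ?_
      exact mem_conjBy_inv ha₀
    have h1 := commute_conj (g := (d e)⁻¹) h0
    rwa [inv_inv, F_conj 1 (one_mem _) e he, F_conj _ (mul_mem he' (inv_mem he)) e he, one_mul,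
      inv_mul_cancel_right] at h1
  have F_B : ∀ e ∈ E, e ≠ 1 → ∀ b ∈ B, Commute (F e) b := fun e he he1 b hb => by
    refine hP (conjBy A (d e)⁻¹) (hS.conj_mem A hA _) ?_ (fun hfix => ?_) _ (mem_conjBy_inv ha₀) b hb
    · exact cm_delta hS hA hE hAE hgA hgE he
    have hA' : ∀ a ∈ A, Commute (d e) a := fun a ha =>
      comm_of_fix hS hA hE hAE (d_E e he) hfix ha
    have h1 : d e = 1 := Root.eq_one_of_central_shift hS hA (RankOnePair_symm hAE) hE' he he1
      (fun x hx => (d_E e he x hx).eq) (fun x hx => (hA' x hx).eq) (by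
        have hc : Commute e (g⁻¹ * e * g) := hgE e he _ (mem_conjBy_inv he)
        simp only [hd, delta]
        rw [hc.inv_left.eq, inv_mul_cancel_right]
        exact mem_conjBy_inv he)
    have h2 : e = g⁻¹ * e * g := inv_mul_eq_one.1 h1
    exact hEne (Root.eq_of_meet hS hE hE' ⟨A, hA, RankOnePair_symm hAE⟩ he
      (h2 ▸ mem_conjBy_inv he) he1)
  have hue : d e₀ = u := hu.symm
  have hgF : g = (F 1)⁻¹ * F e₀ := by rw [F_one, hg]; simp [hF, hue, gam]
  -- the commutation of `E ^ g` with `E ^ γ`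
  have key : ∀ y ∈ E, Cm (conjBy E g⁻¹) (conjBy E (gam (d y) a₀)⁻¹) := by
    intro y hy
    set y' := y * e₀⁻¹ with hy'
    have hy'E : y' ∈ E := mul_mem hy (inv_mem he₀)
    have hη := cm_gam hS hA hE hAE (d_E y' hy'E) (d_pow y' hy'E) ha₀
    set η := gam (d y') a₀ with hη'
    have hdy : d y = d y' * u := by rw [← hue, ← d_mul y' hy'E e₀ he₀, hy', inv_mul_cancel_right]
    have h1 := (hη.conj u⁻¹).conj g⁻¹
    rw [conjBy_of_comm (A := E) (g := u⁻¹) fun x hx => ((huE x hx).inv_left).eq, conjBy_conjBy,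
      conjBy_conjBy] at h1
    have hη2 : u⁻¹ * η * u = (F e₀)⁻¹ * F y := by
      rw [hη', gam]; simp only [hF]; rw [hue, hdy]; group
    have hγ : gam (d y) a₀ = (F 1)⁻¹ * F y := by rw [F_one, gam]
    have hc : Commute g (u⁻¹ * η * u) := by
      rw [hgF, hη2]
      exact ((F_comm 1 (one_mem _) e₀ he₀).inv_inv.mul_right
        (F_comm 1 (one_mem _) y hy).inv_left).mul_left
        (((F_comm e₀ he₀ e₀ he₀).inv_right).mul_right (F_comm e₀ he₀ y hy))
    have e : (gam (d y) a₀)⁻¹ = g⁻¹ * (u⁻¹ * η⁻¹ * u) := by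
      rw [hγ, show (F 1)⁻¹ * F y = g * (u⁻¹ * η * u) by rw [hgF, hη2]; group, hc.eq]
      group
    rw [e, show g⁻¹ * (u⁻¹ * η⁻¹ * u) = g⁻¹ * (u⁻¹ * η⁻¹) * u by group, ← conjBy_conjBy E u,
      conjBy_of_comm fun x hx => (huE x hx).eq, ← mul_assoc]
    exact h1
  -- the choice of three elements
  obtain ⟨y, hy, x, hx, z, hz, hy1, hx1, hz1, hyx, hyz, hxz, hyxz⟩ := hgood
  set γ := gam (d y) a₀ with hγdef
  set w := d x with hw
  have hγE : Cm E (conjBy E γ⁻¹) := cm_gam hS hA hE hAE (d_E y hy) (d_pow y hy) ha₀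
  set e := γ⁻¹ * (w⁻¹ * γ * w) with he
  have hγF : γ = (F 1)⁻¹ * F y := by rw [F_one, hγdef, gam]
  have hwF : w⁻¹ * γ * w = (F x)⁻¹ * F (y * x) := by
    rw [hγF, show w⁻¹ * ((F 1)⁻¹ * F y) * w = (w⁻¹ * F 1 * w)⁻¹ * (w⁻¹ * F y * w) by group,
      F_conj 1 (one_mem _) x hx, F_conj y hy x hx, one_mul]
  have heF : e = ((F 1)⁻¹ * F y)⁻¹ * ((F x)⁻¹ * F (y * x)) := by rw [he, hwF, hγF]
  have eF : ∀ t ∈ E, Commute e (F t) := fun t ht => by
    rw [heF]
    exact (((F_comm 1 (one_mem _) t ht).inv_left).mul_left (F_comm y hy t ht)).inv_left.mul_left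
      (((F_comm x hx t ht).inv_left).mul_left (F_comm _ (mul_mem hy hx) t ht))
  have heγ : Commute e γ := by
    rw [hγF]; exact ((eF 1 (one_mem _)).inv_right).mul_right (eF y hy)
  have heg : Commute e g := by
    rw [hgF]; exact ((eF 1 (one_mem _)).inv_right).mul_right (eF e₀ he₀)
  have heE : ∀ b ∈ E, Commute e b := fun b hb => by
    set s := delta γ b with hs
    have hbγ : Commute b (γ⁻¹ * b * γ) := hγE b hb _ (mem_conjBy_inv hb)
    have hws : Commute w s := by
      have c1 : Commute x b := hcE x hx b hb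
      have c2 : Commute x (γ⁻¹ * b * γ) := hγE x hx _ (mem_conjBy_inv hb)
      have c3 : Commute (g⁻¹ * x * g) b := (hgE b hb _ (mem_conjBy_inv hx)).symm
      have c4 : Commute (g⁻¹ * x * g) (γ⁻¹ * b * γ) :=
        key y hy _ (mem_conjBy_inv hx) _ (mem_conjBy_inv hb)
      exact (c1.inv_inv.mul_right c2.inv_left).mul_left ((c3.inv_right).mul_right c4)
    have hwb : Commute w b := d_E x hx b hb
    have h1 : b⁻¹ * γ * b = γ * s⁻¹ := by
      rw [hs, delta]
      group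
    have h2 : b⁻¹ * e * b = s * e * s⁻¹ := by
      calc b⁻¹ * e * b = (b⁻¹ * γ * b)⁻¹ * ((b⁻¹ * w⁻¹) * γ * (w * b)) := by rw [he]; group
        _ = (b⁻¹ * γ * b)⁻¹ * (w⁻¹ * (b⁻¹ * γ * b) * w) := by
            rw [hwb.symm.inv_inv.eq, hwb.eq]; group
        _ = s * γ⁻¹ * (w⁻¹ * γ * (s⁻¹ * w)) := by rw [h1]; group
        _ = s * e * s⁻¹ := by rw [← hws.inv_right.eq, he]; group
    have h3 : Commute e (γ⁻¹ * b * γ) := by
      rw [show γ⁻¹ * b * γ = b * s by rw [hs, delta, mul_inv_cancel_left]]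
      show e * (b * s) = b * s * e
      calc e * (b * s) = b * (b⁻¹ * e * b) * s := by group
        _ = b * s * e := by rw [h2]; group
    have h5 : Commute (γ * e * γ⁻¹) (γ * (γ⁻¹ * b * γ) * γ⁻¹) := commute_conj h3
    rwa [← heγ.eq, mul_inv_cancel_right, show γ * (γ⁻¹ * b * γ) * γ⁻¹ = b by group] at h5
  have hez : Commute e (d z) := by
    simp only [hd, delta]
    exact (heE z hz).inv_right.mul_right ((heg.inv_right.mul_right (heE z hz)).mul_right heg)
  have heB : ∀ b ∈ B, Commute e b := fun b hb => by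
    have e2 : e = ((F z)⁻¹ * F (y * z))⁻¹ * ((F (x * z))⁻¹ * F (y * x * z)) := by
      calc e = (d z)⁻¹ * e * d z := by rw [mul_assoc, hez.eq, inv_mul_cancel_left]
        _ = ((((d z)⁻¹ * F 1 * d z)⁻¹ * ((d z)⁻¹ * F y * d z)))⁻¹ *
              ((((d z)⁻¹ * F x * d z)⁻¹ * ((d z)⁻¹ * F (y * x) * d z))) := by rw [heF]; group
        _ = _ := by
          rw [F_conj 1 (one_mem _) z hz, F_conj y hy z hz, F_conj x hx z hz,
            F_conj _ (mul_mem hy hx) z hz, one_mul]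
    rw [e2]
    exact (((F_B z hz hz1 b hb).inv_left).mul_left
      (F_B _ (mul_mem hy hz) hyz b hb)).inv_left.mul_left
      (((F_B _ (mul_mem hx hz) hxz b hb).inv_left).mul_left
        (F_B _ (mul_mem (mul_mem hy hx) hz) hyxz b hb))
  have ha : ∀ b ∈ B, Commute a₀ b := fun b hb => by
    have e3 : a₀ = F y * e * ((F (y * x))⁻¹ * F x) := by rw [← F_one, heF]; group
    rw [e3]
    exact ((F_B y hy hy1 b hb).mul_left (heB b hb)).mul_left
      ((F_B _ (mul_mem hy hx) hyx b hb).inv_left.mul_left (F_B x hx hx1 b hb))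
  apply hu1
  have h1 : g = 1 := by
    rw [hg, RankOne.eq_one_of_centralizes hAB ha₀ fun b hb => (ha b hb).eq]
    simp [gam]
  rw [hu, hd, h1]
  simp [delta]

end

end Cfsg.Agent.Lib.RootSpecial84
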