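import Cfsg.Agent.Lib.RootSpecial84.Opposite
import Cfsg.Agent.Lib.RootSubgroups.SL2
import Cfsg.Agent.Lib.RootSubgroups.Special

/-!
Rank one pairs with small members containing the unitriangular subgroups of an image of `SL₂(k)`.
-/

set_option autoImplicit false

namespace Cfsg.Agent.Lib.RootSpecial84

open Cfsg Cfsg.Agent.Lib.RootSubgroups

variable {G : Type*} [Group G] {A B A₀ B₀ : Subgroup G}

lemma orderOf_le_three (h : ¬ Good A) {a : G} (ha : a ∈ A) : 0 < orderOf a ∧ orderOf a ≤ 3 := by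
  rcases pow_eq_one_of_not_good h ha with e | e
  · exact ⟨(isOfFinOrder_iff_pow_eq_one.2 ⟨2, by omega, e⟩).orderOf_pos,
      (Nat.le_of_dvd (by omega) (orderOf_dvd_of_pow_eq_one e)).trans (by omega)⟩
  · exact ⟨(isOfFinOrder_iff_pow_eq_one.2 ⟨3, by omega, e⟩).orderOf_pos,
      Nat.le_of_dvd (by omega) (orderOf_dvd_of_pow_eq_one e)⟩

lemma exists_third {k : Type*} [Field k] (hk : 3 < ENat.card k) : ∃ t : k, t ≠ 0 ∧ 1 + t ≠ 0 := by
  by_contra hc
  push Not at hc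
  have h1 : (Set.univ : Set k) ⊆ {0, -1} := fun t _ => by
    by_cases ht : t = 0
    · exact Or.inl ht
    · exact Or.inr (eq_neg_of_add_eq_zero_right (hc t ht))
  have h2 := Set.encard_le_encard h1
  rw [Set.encard_univ] at h2
  have h3 : Set.encard ({0, -1} : Set k) ≤ 3 :=
    (Set.encard_insert_le _ _).trans (by rw [Set.encard_singleton]; norm_num)
  exact absurd (h2.trans h3) (not_le.2 hk)

lemma eq_of_not_good (h : ¬ Good A) {k : Type*} [Field k] (hk : 3 < ENat.card k) (f : k → G)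
    (hf : Function.Injective f) (hmul : ∀ s t, f (s + t) = f s * f t) (hle : A₀ ≤ A)
    (hA₀ : ∀ x, x ∈ A₀ ↔ ∃ t, f t = x) : A₀ = A := by
  refine le_antisymm hle fun a ha => ?_
  by_contra ha₀
  obtain ⟨t, ht, ht'⟩ := exists_third hk
  have h0 : f 0 = 1 := by simpa using (hmul 0 0).symm
  have hne : ∀ s, s ≠ 0 → f s ≠ 1 := fun s hs e => hs (hf (e.trans h0.symm))
  have hm : ∀ s, f s ∈ A₀ := fun s => (hA₀ _).2 ⟨s, rfl⟩
  have hout : ∀ s, a * f s ≠ 1 := fun s e => ha₀ (by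
    rw [eq_inv_of_mul_eq_one_left e]; exact inv_mem (hm s))
  exact h ⟨a, ha, f 1, hle (hm 1), f t, hle (hm t), fun e => ha₀ (e ▸ one_mem _),
    hne 1 one_ne_zero, hne t ht, hout 1, hout t, by rw [← hmul]; exact hne _ ht',
    by rw [mul_assoc, ← hmul]; exact hout _⟩

lemma special_of_small (hAB : IsRankOnePair A B) (hA : ¬ Good A) (hB : ¬ Good B) (hA₀ : A₀ ≤ A)
    (hB₀ : B₀ ≤ B) {k : Type*} [Field k] (hk : 3 < ENat.card k) (h : IsPSL2PairOver k A₀ B₀) :
    IsSpecialRankOnePair A B := by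
  obtain ⟨φ, -, hker, hup, hlow⟩ := h
  have inj : ∀ f : k → Matrix.SpecialLinearGroup (Fin 2) k,
      (∀ s t, f s * f t = f (s + t)) →
      (∀ t, f t ∈ Subgroup.center (Matrix.SpecialLinearGroup (Fin 2) k) → t = 0) →
      Function.Injective fun t => φ (f t) := fun f hf hc s t e => by
    have h1 : φ (f (s - t)) * φ (f t) = φ (f s) := by rw [← map_mul, hf, sub_add_cancel]
    exact sub_eq_zero.1 (hc _ (hker (mul_eq_right.1 (h1.trans e))))
  have hiu : Function.Injective fun t => φ (SL2.up t) := inj _ SL2.up_mul fun t ht => by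
    have := congrArg (fun g : Matrix.SpecialLinearGroup (Fin 2) k =>
      (g : Matrix (Fin 2) (Fin 2) k) 0 0) (Subgroup.mem_center_iff.1 ht (SL2.low 1))
    simpa using this
  have hil : Function.Injective fun t => φ (SL2.low t) := inj _ SL2.low_mul fun t ht => by
    have := congrArg (fun g : Matrix.SpecialLinearGroup (Fin 2) k =>
      (g : Matrix (Fin 2) (Fin 2) k) 1 1) (Subgroup.mem_center_iff.1 ht (SL2.up 1))
    simpa using this
  have hAeq : A₀ = A := eq_of_not_good hA hk _ hiu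
    (fun s t => by rw [← map_mul, SL2.up_mul]) hA₀ fun x => by
      rw [← hup, Subgroup.mem_map]
      exact ⟨fun ⟨g, hg, e⟩ => by
          obtain ⟨t, rfl⟩ := SL2.mem_upper.1 hg
          exact ⟨t, e⟩,
        fun ⟨t, e⟩ => ⟨_, SL2.mem_upper.2 ⟨t, rfl⟩, e⟩⟩
  have hBeq : B₀ = B := eq_of_not_good hB hk _ hil
    (fun s t => by rw [← map_mul, SL2.low_mul]) hB₀ fun x => by
      rw [← hlow, Subgroup.mem_map]
      exact ⟨fun ⟨g, hg, e⟩ => by
          obtain ⟨t, rfl⟩ := SL2.mem_lower.1 hg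
          exact ⟨t, e⟩,
        fun ⟨t, e⟩ => ⟨_, SL2.mem_lower.2 ⟨t, rfl⟩, e⟩⟩
  subst hAeq hBeq
  refine RankOne.special_symm ⟨RankOnePair_symm hAB, fun b hb hb1 a ha ha1 e => ?_⟩
  have hb' := hb
  rw [← hlow] at hb'
  obtain ⟨g, hg, rfl⟩ := hb'
  obtain ⟨s, rfl⟩ := SL2.mem_lower.1 hg
  have hs : s ≠ 0 := fun e => hb1 (by rw [e, SL2.low_zero, map_one])
  have r : Rel B₀ A₀ (φ (SL2.low s)) (φ (SL2.up s⁻¹)) := by
    refine ⟨hb, hb1, hup ▸ ⟨_, SL2.mem_upper.2 ⟨_, rfl⟩, rfl⟩,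
      fun e => inv_ne_zero hs (hiu (by simpa using e)), ?_⟩
    have h1 := congrArg (Subgroup.map φ) (SL2.eq_of_mul_eq s s⁻¹ (mul_inv_cancel₀ hs))
    rwa [map_conjBy, map_conjBy, hlow, hup, map_inv, map_inv] at h1
  rw [RankOne.rel_unique_right (RankOnePair_symm hAB) ⟨hb, hb1, ha, ha1, e⟩ r]
  simpa using congrArg φ (SL2.special_identity s s⁻¹ (mul_inv_cancel₀ hs))

end Cfsg.Agent.Lib.RootSpecial84
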